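import Groth.Agent.KFlatLib.Perfect.Top
import Groth.Agent.QCoh.LocFree
import Groth.Agent.AssLib.OpenRestrict
import Groth.Agent.LimMod.Descend

/-!
# The locus where all cohomology sheaves of a perfect complex are finite free
-/

set_option backward.isDefEq.respectTransparency false
set_option backward.isDefEq.respectTransparency.types false
set_option linter.style.haveILetI false

universe u

open CategoryTheory CategoryTheory.Limits AlgebraicGeometry

attribute [local instance] HasDerivedCategory.standard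

namespace Groth.Agent.PerfLocus

open Groth.Agent.KFlatLib

variable {X U : Scheme.{u}}

/-- The stalk is finite free. -/
def FF (M : X.Modules) (x : X) : Prop :=
  Module.Free (X.presheaf.stalk x) (M.presheaf.stalk x) ∧
    Module.Finite (X.presheaf.stalk x) (M.presheaf.stalk x)

lemma FF.of_iso {M N : X.Modules} (e : M ≅ N) {x : X} (h : FF M x) : FF N x := by
  let f := ((DerSch.stalkFunctor X x).mapIso e).toLinearEquiv
  obtain ⟨h1, h2⟩ := h
  haveI : Module.Free (X.presheaf.stalk x) ((DerSch.stalkFunctor X x).obj M : Type u) := h1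
  haveI : Module.Finite (X.presheaf.stalk x) ((DerSch.stalkFunctor X x).obj M : Type u) := h2
  exact ⟨Module.Free.of_equiv f, Module.Finite.equiv f⟩

lemma ff_of_isFinLocFree {M : X.Modules} (h : FlatMod.IsFinLocFree M) (x : X) : FF M x :=
  ⟨QCoh.free_stalk_of_isFinLocFree h x,
    QCoh.finite_stalk_of_isFT (QCoh.isQCoh_of_isFinLocFree h)
      (QCoh.isFT_of_isFP (QCoh.isFP_of_isFinLocFree h)) x⟩

lemma ff_restrict_iff (j : U ⟶ X) [IsOpenImmersion j] (M : X.Modules) (y : U) :
    FF (M.restrict j) y ↔ FF M (j.base y) := by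
  obtain ⟨e, he⟩ := AssLib.exists_semilinear_restrict j M y
  let σ : X.presheaf.stalk (j.base y) ≃+* U.presheaf.stalk y :=
    (asIso (j.stalkMap y)).commRingCatIsoToRingEquiv
  have he' : ∀ a m, e.symm (a • m) = σ a • e.symm m := fun a m => e.injective (by
    change e (e.symm (a • m)) = e ((j.stalkMap y).hom a • e.symm m)
    rw [he, e.apply_symm_apply, e.apply_symm_apply])
  haveI := RingHomInvPair.of_ringEquiv σ
  haveI := RingHomInvPair.symm (σ : X.presheaf.stalk (j.base y) →+* U.presheaf.stalk y)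
    (σ.symm : U.presheaf.stalk y →+* X.presheaf.stalk (j.base y))
  let es : M.presheaf.stalk (j.base y) ≃ₛₗ[(σ : X.presheaf.stalk (j.base y) →+* U.presheaf.stalk y)]
      (M.restrict j).presheaf.stalk y :=
    { e.symm with map_smul' := fun a m => he' a m }
  exact and_congr (Module.Free.iff_of_equiv es).symm
    ⟨fun h => haveI := h; Module.Finite.of_surjective es.symm.toLinearMap es.symm.surjective,
      fun h => haveI := h; Module.Finite.of_surjective es.toLinearMap es.surjective⟩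

/-- A cokernel of finite locally free modules with a free stalk is free nearby. -/
lemma exists_nhd_cokernel {A B : U.Modules} (d : A ⟶ B) (hA : FlatMod.IsFinLocFree A)
    (hB : FlatMod.IsFinLocFree B) (y : U) (h : FF (cokernel d) y) :
    ∃ W : U.Opens, y ∈ W ∧ FlatMod.IsFinLocFree ((cokernel d).restrict W.ι) := by
  haveI := h.1
  obtain ⟨W, n, hy, ⟨e⟩⟩ := QCoh.exists_free_nhd_of_free_stalk
    (M := cokernel d) (LimMod.isFP_cokernel (QCoh.isQCoh_of_isFinLocFree hA)
      (QCoh.isFT_of_isFP (QCoh.isFP_of_isFinLocFree hA)) (QCoh.isFP_of_isFinLocFree hB) d) y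
  exact ⟨W, hy, H23.PullPush.isFinLocFree_of_iso e.symm (fun x => isFinLocFree_freeMod _ x)⟩

lemma isFinLocFree_restrict_le {M : U.Modules} {V W : U.Opens} (h : W ≤ V)
    (hM : FlatMod.IsFinLocFree (M.restrict V.ι)) : FlatMod.IsFinLocFree (M.restrict W.ι) :=
  H23.PullPush.isFinLocFree_of_iso
    ((Scheme.Modules.restrictFunctorIsoPullback (U.homOfLE h)).symm.app _ ≪≫
      ((Scheme.Modules.restrictFunctorComp (U.homOfLE h) V.ι).app M).symm ≪≫
      (Scheme.Modules.restrictFunctorCongr (U.homOfLE_ι h)).app M)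
    (isFinLocFree_pullback (U.homOfLE h) hM)

/-- The cycles of a strictly perfect complex, near a point with free cohomology. -/
lemma exists_cycles_free (P : CochainComplex U.Modules ℤ) {a b : ℤ}
    (hab : DCoh.VanishesOutside P a b) (hf : ∀ i, FlatMod.IsFinLocFree (P.X i)) (y : U)
    (hy : ∀ i, FF (P.homology i) y) (k : ℕ) :
    ∃ W : U.Opens, y ∈ W ∧ ∀ i, b < i + k →
      FlatMod.IsFinLocFree ((P.cycles i).restrict W.ι) ∧
        FlatMod.IsFinLocFree ((P.homology (i + 1)).restrict W.ι) := by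
  induction k with
  | zero =>
    refine ⟨⊤, trivial, fun i hi => ⟨?_, ?_⟩⟩
    · exact isFinLocFree_of_isZero ((Scheme.Modules.restrictFunctor _).map_isZero
        (IsZero.of_mono (P.iCycles i) (hab i (Or.inr (by simpa using hi)))))
    · exact isFinLocFree_of_isZero ((Scheme.Modules.restrictFunctor _).map_isZero
        (ShortComplex.isZero_homology_of_isZero_X₂ _ (hab (i + 1) (Or.inr (by push_cast at hi; omega)))))
  | succ k ih =>
    obtain ⟨W, hW, hW'⟩ := ih
    let i := b - k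
    let j := i + 1
    have hij : (ComplexShape.up ℤ).Rel i j := rfl
    let R := Scheme.Modules.restrictFunctor W.ι
    let t := P.toCycles i j
    have hz : FlatMod.IsFinLocFree ((P.cycles j).restrict W.ι) := (hW' j (by omega)).1
    let ec : cokernel t ≅ P.homology j := (cokernelIsCokernel t).coconePointUniqueUpToIso
      (P.homologyIsCokernel i j (by simp [j]))
    let ecW : cokernel (R.map t) ≅ (P.homology j).restrict W.ι :=
      (PreservesCokernel.iso R t).symm ≪≫ R.mapIso ec
    obtain ⟨W₁, hy₁, hW₁⟩ := exists_nhd_cokernel (R.map t)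
      (isFinLocFree_restrict W (hf i)) hz ⟨y, hW⟩
      (FF.of_iso ecW.symm ((ff_restrict_iff W.ι (P.homology j) ⟨y, hW⟩).2 (hy j)))
    let V : U.Opens := W.ι ''ᵁ W₁
    have hyV : y ∈ V := ⟨⟨y, hW⟩, hy₁, rfl⟩
    have hle : V ≤ W := W.ι_image_le W₁
    let S := Scheme.Modules.restrictFunctor V.ι
    have hH : FlatMod.IsFinLocFree ((P.homology j).restrict V.ι) := by
      let φ : (V : Scheme.{u}) ⟶ (W₁ : Scheme.{u}) :=
        IsOpenImmersion.lift (W₁.ι ≫ W.ι) V.ι (by
          rintro _ ⟨⟨v, ⟨w, hw, rfl⟩⟩, rfl⟩; exact ⟨⟨w, hw⟩, rfl⟩)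
      have hφ : φ ≫ W₁.ι ≫ W.ι = V.ι := IsOpenImmersion.lift_fac ..
      haveI : IsOpenImmersion φ := by
        haveI : IsOpenImmersion (φ ≫ W₁.ι ≫ W.ι) := by rw [hφ]; infer_instance
        exact IsOpenImmersion.of_comp φ (W₁.ι ≫ W.ι)
      exact H23.PullPush.isFinLocFree_of_iso
        ((Scheme.Modules.pullback φ).mapIso ((Scheme.Modules.restrictFunctor W₁.ι).mapIso ecW) ≪≫
          (Scheme.Modules.restrictFunctorIsoPullback φ).symm.app _ ≪≫
          (Scheme.Modules.restrictFunctor φ).mapIso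
            (restrict₂Iso W₁.ι W.ι (W₁.ι ≫ W.ι) rfl (P.homology j)) ≪≫
          restrict₂Iso φ (W₁.ι ≫ W.ι) V.ι hφ _)
        (isFinLocFree_pullback φ hW₁)
    have hA : FlatMod.IsFinLocFree (S.obj (P.X i)) := isFinLocFree_restrict V (hf i)
    have hB : FlatMod.IsFinLocFree (S.obj (P.cycles j)) := isFinLocFree_restrict_le hle hz
    let π := cokernel.π (S.map t)
    let ecV : cokernel (S.map t) ≅ (P.homology j).restrict V.ι :=
      (PreservesCokernel.iso S t).symm ≪≫ S.mapIso ec
    have hK : FlatMod.IsFinLocFree (kernel π) :=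
      isFinLocFree_kernel π hB (H23.PullPush.isFinLocFree_of_iso ecV.symm hH)
    have hex : (ShortComplex.mk (S.map t) π (cokernel.condition _)).Exact :=
      ShortComplex.exact_of_g_is_cokernel _ (cokernelIsCokernel _)
    let l := kernel.lift π (S.map t) (cokernel.condition _)
    haveI : Epi l := hex.epi_kernelLift
    have hL : FlatMod.IsFinLocFree (kernel l) := isFinLocFree_kernel l hA hK
    let eC : kernel l ≅ (P.cycles i).restrict V.ι :=
      (kernelCompMono l (kernel.ι π)).symm ≪≫ kernelIsoOfEq (kernel.lift_ι π _ _) ≪≫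
        (PreservesKernel.iso S t).symm ≪≫
        S.mapIso ((kernelCompMono t (P.iCycles j)).symm ≪≫ kernelIsoOfEq (P.toCycles_i i j) ≪≫
          (kernelIsKernel (P.d i j)).conePointUniqueUpToIso (P.cyclesIsKernel i j (by simp [j])))
    refine ⟨V, hyV, fun m hm => ?_⟩
    by_cases hmi : m = i
    · subst hmi
      exact ⟨H23.PullPush.isFinLocFree_of_iso eC hL, hH⟩
    · obtain ⟨h₁, h₂⟩ := hW' m (by omega)
      exact ⟨isFinLocFree_restrict_le hle h₁, isFinLocFree_restrict_le hle h₂⟩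

/-- All cohomology sheaves of a perfect object are free near a point where their stalks are free. -/
lemma exists_nhd {E : DCoh.D X} (hE : DCoh.IsPerfect E) (x : X)
    (hx : ∀ i, FF (DCoh.HD E i) x) :
    ∃ W : X.Opens, x ∈ W ∧ ∀ i, FlatMod.IsFinLocFree ((DCoh.HD E i).restrict W.ι) := by
  obtain ⟨U, j, _, ⟨y, rfl⟩, P, hP, ⟨e⟩⟩ := (isPerfect_iff E).1 hE x
  obtain ⟨a, b, hab⟩ := hP.1
  let eH : ∀ i, P.homology i ≅ (DCoh.HD E i).restrict j := fun i =>
    ((DerivedCategory.homologyFunctorFactors _ i).app P).symm ≪≫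
      (DerivedCategory.homologyFunctor _ i).mapIso e ≪≫ hdRhoIso j E i
  have hy : ∀ i, FF (P.homology i) y := fun i =>
    FF.of_iso (eH i).symm ((ff_restrict_iff j (DCoh.HD E i) y).2 (hx i))
  obtain ⟨W, hW, hW'⟩ := exists_cycles_free P hab hP.2 y hy (b - a + 3).toNat
  have hflf : ∀ i, FlatMod.IsFinLocFree ((P.homology i).restrict W.ι) := fun i => by
    by_cases hi : a ≤ i
    · have := (hW' (i - 1) (by omega)).2
      rwa [sub_add_cancel] at this
    · exact isFinLocFree_of_isZero ((Scheme.Modules.restrictFunctor _).map_isZero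
        (ShortComplex.isZero_homology_of_isZero_X₂ _ (hab i (Or.inl (by omega)))))
  let j' := W.ι ≫ j
  refine ⟨j'.opensRange, ⟨⟨y, hW⟩, rfl⟩, fun i => ?_⟩
  exact H23.PullPush.isFinLocFree_of_iso
    ((Scheme.Modules.restrictFunctorIsoPullback (rangeHom j')).symm.app _ ≪≫
      restrict₂Iso (rangeHom j') j' j'.opensRange.ι (rangeHom_fac j') _)
    (isFinLocFree_pullback (rangeHom j') (H23.PullPush.isFinLocFree_of_iso
      ((Scheme.Modules.restrictFunctor W.ι).mapIso (eH i) ≪≫ restrict₂Iso W.ι j j' rfl _) (hflf i)))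

theorem exists_locus {E : DCoh.D X} (hE : DCoh.IsPerfect E) :
    ∃ U : X.Opens,
      (U : Set X) = {x : X | ∀ i : ℤ, FF (DCoh.HD E i) x} ∧
      (∀ i : ℤ, FlatMod.IsFinLocFree ((DCoh.HD E i).restrict U.ι)) ∧
      ∀ W : X.Opens, (∀ i : ℤ, FlatMod.IsFinLocFree ((DCoh.HD E i).restrict W.ι)) → W ≤ U := by
  have hmax : ∀ W : X.Opens, (∀ i, FlatMod.IsFinLocFree ((DCoh.HD E i).restrict W.ι)) →
      ∀ x ∈ W, ∀ i, FF (DCoh.HD E i) x := fun W hW x hx i =>
    (ff_restrict_iff W.ι (DCoh.HD E i) ⟨x, hx⟩).1 (ff_of_isFinLocFree (hW i) _)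
  have hopen : IsOpen {x : X | ∀ i : ℤ, FF (DCoh.HD E i) x} :=
    isOpen_iff_forall_mem_open.2 fun x hx => by
      obtain ⟨W, hxW, hW⟩ := exists_nhd hE x hx
      exact ⟨W, fun z hz => hmax W hW z hz, W.2, hxW⟩
  refine ⟨⟨_, hopen⟩, rfl, fun i => ?_, fun W hW x hx => hmax W hW x hx⟩
  refine isFinLocFree_of_restrict fun v => ?_
  obtain ⟨W, hxW, hW⟩ := exists_nhd hE v.1 v.2
  let U₀ : X.Opens := ⟨_, hopen⟩
  have hle : W ≤ U₀ := fun z hz => hmax W hW z hz
  let W' : (U₀ : Scheme.{u}).Opens := U₀.ι ⁻¹ᵁ W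
  let φ : (W' : Scheme.{u}) ⟶ (W : Scheme.{u}) := U₀.ι ∣_ W
  exact ⟨W', hxW, H23.PullPush.isFinLocFree_of_iso
    ((Scheme.Modules.restrictFunctorIsoPullback φ).symm.app _ ≪≫
      restrict₂Iso φ W.ι (W'.ι ≫ U₀.ι) (morphismRestrict_ι U₀.ι W) _ ≪≫
      (restrict₂Iso W'.ι U₀.ι (W'.ι ≫ U₀.ι) rfl _).symm)
    (isFinLocFree_pullback φ (hW i))⟩

end Groth.Agent.PerfLocus
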